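import Cfsg.Agent.H194.Inv.SpTools

/-!
# S3830, row I10 (`PSp_2n(q)`, `q` odd): the linear case (helper194)

* `HasY B g` : some isometry `Y` with `Y ^ 2 = -1` generates a non-solvable group with `g`;
* `core_ss` : `S = g + g⁻¹`, `m` irreducible, `m(S) v = 0`, `B (v, c(S) g v) ≠ 0`: `HasY B g`;
* `core_lin` : all isometries of prime order `p ≥ 5`.
-/

set_option autoImplicit false
set_option linter.unusedSectionVars false

namespace Cfsg.Agent.H194.Inv

open Subgroup Cfsg Module Polynomial

theorem not_solvable_inj {G H : Type*} [Group G] [Group H] (f : G →* H) (hf : Function.Injective f) {a b : G}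
    (h : ¬ Group.IsSolvable ↥(closure ({a, b} : Set G))) : ¬ Group.IsSolvable ↥(closure ({f a, f b} : Set H)) := by
  intro hs
  apply h
  have h1 : (closure ({a, b} : Set G)).map f = closure ({f a, f b} : Set H) := by
    rw [MonoidHom.map_closure, Set.image_pair]
  have h2 : Group.IsSolvable ↥((closure ({a, b} : Set G)).map f) := by rw [h1]; exact hs
  refine Group.isSolvable_of_isSolvable_injective (f := f.subgroupMap (closure ({a, b} : Set G))) ?_
  intro x y hxy
  exact Subtype.ext (hf (congrArg Subtype.val hxy))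

/-- the permutations of `E²` -/
def glPerm (E : Type*) [Field E] : GL (Fin 2) E →* Equiv.Perm (Fin 2 → E) where
  toFun g :=
    { toFun := fun x => (g : Matrix (Fin 2) (Fin 2) E).mulVec x
      invFun := fun x => ((g⁻¹ : GL (Fin 2) E) : Matrix (Fin 2) (Fin 2) E).mulVec x
      left_inv := fun x => by
        show ((g⁻¹ : GL (Fin 2) E) : Matrix (Fin 2) (Fin 2) E).mulVec ((g : Matrix (Fin 2) (Fin 2) E).mulVec x) = x
        rw [Matrix.mulVec_mulVec, ← Units.val_mul, inv_mul_cancel, Units.val_one, Matrix.one_mulVec]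
      right_inv := fun x => by
        show (g : Matrix (Fin 2) (Fin 2) E).mulVec (((g⁻¹ : GL (Fin 2) E) : Matrix (Fin 2) (Fin 2) E).mulVec x) = x
        rw [Matrix.mulVec_mulVec, ← Units.val_mul, mul_inv_cancel, Units.val_one, Matrix.one_mulVec] }
  map_one' := by
    apply Equiv.ext
    intro x
    exact Matrix.one_mulVec x
  map_mul' g h := by
    apply Equiv.ext
    intro x
    show ((g * h : GL (Fin 2) E) : Matrix (Fin 2) (Fin 2) E).mulVec x = _
    rw [Units.val_mul, ← Matrix.mulVec_mulVec]
    rfl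

theorem glPerm_injective (E : Type*) [Field E] : Function.Injective (glPerm E) := by
  intro g h hgh
  apply Units.ext
  apply Matrix.mulVec_injective
  funext x
  exact Equiv.congr_fun hgh x

section

variable {F V : Type*} [Field F] [AddCommGroup V] [Module F V]

/-- some isometry `Y` of square `-1` generates a non-solvable group with `g` -/
def HasY (B : LinearMap.BilinForm F V) (g : Equiv.Perm V) : Prop :=
  ∃ (Y : V →ₗ[F] V) (hY : ∀ v, Y (Y v) = -v), (∀ u v, B (Y u) (Y v) = B u v) ∧
    ¬ Group.IsSolvable ↥(closure ({g, (negEquiv Y hY).toEquiv} : Set (Equiv.Perm V)))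

/-- `g + g⁻¹` -/
def Sg (g : V ≃ₗ[F] V) : Module.End F V := g.toLinearMap + g.symm.toLinearMap

theorem Sg_apply (g : V ≃ₗ[F] V) (v : V) : Sg g v = g v + g.symm v := rfl

variable {B : LinearMap.BilinForm F V}

theorem aeval_comm {g : V ≃ₗ[F] V} (P : F[X]) (v : V) : aeval (Sg g) P (g v) = g (aeval (Sg g) P v) := by
  have h1 : Commute (g.toLinearMap : Module.End F V) (Sg g) := by
    apply LinearMap.ext
    intro v
    show g (g v + g.symm v) = g (g v) + g.symm (g v)
    rw [map_add, g.symm_apply_apply, g.apply_symm_apply]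
  have h2 : Commute (g.toLinearMap : Module.End F V) (aeval (Sg g) P) := by
    induction P using Polynomial.induction_on' with
    | add p q hp hq =>
      rw [map_add]
      exact hp.add_right hq
    | monomial n a =>
      rw [aeval_monomial]
      exact (Algebra.commute_algebraMap_right a _).mul_right (h1.pow_right n)
  exact (LinearMap.congr_fun h2.eq v).symm

theorem aeval_adj {g : V ≃ₗ[F] V} (hg : ∀ u v, B (g u) (g v) = B u v) (P : F[X]) (u v : V) :
    B (aeval (Sg g) P u) v = B u (aeval (Sg g) P v) := by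
  have hg1 : ∀ u v, B (g u) v = B u (g.symm v) := by
    intro u v
    rw [← hg u, g.apply_symm_apply]
  have hg2 : ∀ u v, B (g.symm u) v = B u (g v) := by
    intro u v
    rw [← hg (g.symm u), g.apply_symm_apply]
  have hS : ∀ u v, B (Sg g u) v = B u (Sg g v) := by
    intro u v
    rw [Sg_apply, Sg_apply, map_add, LinearMap.add_apply, map_add, hg1, hg2, add_comm]
  have hSn : ∀ (n : ℕ) u v, B ((Sg g ^ n) u) v = B u ((Sg g ^ n) v) := by
    intro n
    induction n with
    | zero => intro u v; rfl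
    | succ n ih =>
      intro u v
      have h1 : Sg g * Sg g ^ n = Sg g ^ n * Sg g := (pow_succ' _ _).symm.trans (pow_succ _ _)
      rw [pow_succ', Module.End.mul_apply, hS, ih, h1, Module.End.mul_apply]
  induction P using Polynomial.induction_on' with
  | add p q hp hq =>
    rw [map_add, LinearMap.add_apply, map_add, LinearMap.add_apply, LinearMap.add_apply, map_add, hp, hq]
  | monomial n a =>
    rw [aeval_monomial]
    show B (algebraMap F (Module.End F V) a ((Sg g ^ n) u)) v = B u (algebraMap F (Module.End F V) a ((Sg g ^ n) v))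
    rw [Module.algebraMap_end_apply, Module.algebraMap_end_apply, map_smul, map_smul, LinearMap.smul_apply, hSn]

/-- the action of `F[X] / (m)` on `ker m(S)` -/
theorem exists_rho (g : V ≃ₗ[F] V) (m : F[X]) {U : Submodule F V} (hU : U = LinearMap.ker (aeval (Sg g) m)) :
    ∃ ρ : AdjoinRoot m →+* Module.End F U,
      ∀ (P : F[X]) (u : U), ((ρ (AdjoinRoot.mk m P) u : U) : V) = aeval (Sg g) P (u : V) := by
  have hinv : ∀ P : F[X], ∀ u ∈ U, aeval (Sg g) P u ∈ U := by
    intro P u hu
    rw [hU, LinearMap.mem_ker] at hu ⊢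
    rw [← Module.End.mul_apply, ← map_mul, mul_comm, map_mul, Module.End.mul_apply, hu, map_zero]
  let f : F[X] →+* Module.End F U :=
    { toFun := fun P => (aeval (Sg g) P).restrict (hinv P)
      map_one' := by
        ext u
        simp
      map_zero' := by
        ext u
        simp
      map_add' := by
        intro P Q
        ext u
        simp
      map_mul' := by
        intro P Q
        ext u
        simp }
  refine ⟨Ideal.Quotient.lift (Ideal.span {m}) f ?_, ?_⟩
  · intro a ha
    obtain ⟨b, rfl⟩ := Ideal.mem_span_singleton.1 ha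
    ext u
    show aeval (Sg g) (m * b) (u : V) = 0
    have h1 : (u : V) ∈ LinearMap.ker (aeval (Sg g) m) := hU ▸ u.2
    rw [mul_comm, map_mul, Module.End.mul_apply, LinearMap.mem_ker.1 h1, map_zero]
  · intro P u
    rfl

/-- **The core**: a non-degenerate `E`-plane, `E = F[X] / (m)` -/
theorem core_ss [Finite F] [FiniteDimensional F V] (hA : B.IsAlt) (hnd : ∀ u, (∀ v, B u v = 0) → u = 0)
    (h20 : (2 : F) ≠ 0) {g : V ≃ₗ[F] V} (hg : ∀ u v, B (g u) (g v) = B u v) {p : ℕ} (hp : p.Prime) (h5 : 5 ≤ p)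
    (hgp : g ^ p = 1) {m : F[X]} (hm : Irreducible m) {v : V} (hv : aeval (Sg g) m v = 0) {c : F[X]}
    (hc : B v (aeval (Sg g) c (g v)) ≠ 0) : HasY B g.toEquiv := by
  have hfact : Fact (Irreducible m) := ⟨hm⟩
  obtain ⟨U, hU⟩ : ∃ U : Submodule F V, U = LinearMap.ker (aeval (Sg g) m) := ⟨_, rfl⟩
  obtain ⟨ρ, hρ⟩ := exists_rho g m hU
  set E := AdjoinRoot m with hE
  have hvU : v ∈ U := by rw [hU]; exact hv
  have hfin : Finite E := by
    have : Module.Finite F E := (AdjoinRoot.powerBasis hm.ne_zero).finite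
    exact Module.finite_of_finite F
  have hgU : ∀ u ∈ U, g u ∈ U := by
    intro u hu
    rw [hU, LinearMap.mem_ker] at hu ⊢
    rw [aeval_comm, hu, map_zero]
  set v' : U := ⟨v, hvU⟩ with hv'
  set w' : U := ⟨g v, hgU v hvU⟩ with hw'
  have hρadj : ∀ (e : E) (u w : U), B ((ρ e u : U) : V) (w : V) = B (u : V) ((ρ e w : U) : V) := by
    intro e u w
    obtain ⟨P, rfl⟩ := AdjoinRoot.mk_surjective e
    rw [hρ, hρ, aeval_adj hg]
  have hρg : ∀ (e : E) (u : U), ((ρ e ⟨g u, hgU u u.2⟩ : U) : V) = g ((ρ e u : U) : V) := by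
    intro e u
    obtain ⟨P, rfl⟩ := AdjoinRoot.mk_surjective e
    rw [hρ, hρ, aeval_comm]
  have hρ0 : ∀ (e : E) (u : U), B (u : V) ((ρ e u : U) : V) = 0 := by
    intro e u
    have h1 : B (u : V) ((ρ e u : U) : V) = -B (u : V) ((ρ e u : U) : V) := by
      conv_lhs => rw [← hρadj, ← LinearMap.IsAlt.neg hA]
    have h2 : (2 : F) * B (u : V) ((ρ e u : U) : V) = 0 := by linear_combination h1
    exact (mul_eq_zero.1 h2).resolve_left h20
  have hρF : ∀ (a : F) (e : E) (u : U), ((ρ (a • e) u : U) : V) = a • ((ρ e u : U) : V) := by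
    intro a e u
    obtain ⟨P, rfl⟩ := AdjoinRoot.mk_surjective e
    have h1 : a • (AdjoinRoot.mk m P) = AdjoinRoot.mk m (a • P) := AdjoinRoot.smul_mk m a P
    rw [h1, hρ, hρ, map_smul, LinearMap.smul_apply]
  set β : E → F := fun e => B v ((ρ e w' : U) : V) with hβ
  have hβsub : ∀ e f, β (e - f) = β e - β f := by
    intro e f
    show B v ((ρ (e - f) w' : U) : V) = _
    rw [map_sub, LinearMap.sub_apply, Submodule.coe_sub, map_sub]
  have hβne : ∀ x : E, x ≠ 0 → ∃ e, β (x * e) ≠ 0 := by
    intro x hx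
    refine ⟨x⁻¹ * AdjoinRoot.mk m c, ?_⟩
    rw [mul_inv_cancel_left₀ hx]
    show B v ((ρ (AdjoinRoot.mk m c) w' : U) : V) ≠ 0
    rw [hρ]
    exact hc
  -- the plane
  let i : (Fin 2 → E) →ₗ[F] V :=
    { toFun := fun x => ((ρ (x 0) v' : U) : V) + ((ρ (x 1) w' : U) : V)
      map_add' := by
        intro x y
        simp only [Pi.add_apply, map_add, LinearMap.add_apply, Submodule.coe_add]
        abel
      map_smul' := by
        intro a x
        simp only [Pi.smul_apply, hρF, RingHom.id_apply, smul_add] }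
  have hi' : ∀ x, i x = ((ρ (x 0) v' : U) : V) + ((ρ (x 1) w' : U) : V) := fun x => rfl
  have hgg : ∀ u v, B (g u) (g v) = B u v := hg
  have hβ' : ∀ a b, B ((ρ a v' : U) : V) ((ρ b w' : U) : V) = β (a * b) := by
    intro a b
    rw [hρadj, ← Module.End.mul_apply, ← map_mul]
  have hβ'' : ∀ a b, B ((ρ b w' : U) : V) ((ρ a v' : U) : V) = -β (a * b) := by
    intro a b
    rw [← hβ', LinearMap.IsAlt.neg hA]
  have hvv : ∀ a b, B ((ρ a v' : U) : V) ((ρ b v' : U) : V) = 0 := by
    intro a b
    rw [hρadj, ← Module.End.mul_apply, ← map_mul, hρ0]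
  have hww : ∀ a b, B ((ρ a w' : U) : V) ((ρ b w' : U) : V) = 0 := by
    intro a b
    rw [hρadj, ← Module.End.mul_apply, ← map_mul, hρ0]
  have hform : ∀ x y, B (i x) (i y) = β (x 0 * y 1 - x 1 * y 0) := by
    intro x y
    rw [hi', hi', hβsub]
    simp only [map_add, LinearMap.add_apply]
    rw [hvv, hww, hβ', hβ'', mul_comm (y 0)]
    ring
  have hi : ∀ x, (∀ y, B (i x) (i y) = 0) → x = 0 := by
    intro x hx
    have h0 : x 0 = 0 := by
      by_contra h0
      obtain ⟨e, he⟩ := hβne _ h0
      apply he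
      have := hx ![0, e]
      rw [hform] at this
      simpa using this
    have h1 : x 1 = 0 := by
      by_contra h1
      obtain ⟨e, he⟩ := hβne _ h1
      apply he
      have := hx ![-e, 0]
      rw [hform] at this
      have h3 : x 0 * (![-e, 0] : Fin 2 → E) 1 - x 1 * (![-e, 0] : Fin 2 → E) 0 = x 1 * e := by
        simp only [Matrix.cons_val_zero, Matrix.cons_val_one]
        ring
      rwa [h3] at this
    ext j
    fin_cases j
    · exact h0
    · exact h1
  have hinj : Function.Injective i := by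
    rw [injective_iff_map_eq_zero]
    intro u hu
    apply hi
    intro v
    rw [hu, map_zero, LinearMap.zero_apply]
  -- the matrix of `g`
  set s : E := AdjoinRoot.root m with hs
  have hdet : (!![0, -1; 1, s] : Matrix (Fin 2) (Fin 2) E).det = 1 := by
    rw [Matrix.det_fin_two_of]
    ring
  set A : GL (Fin 2) E := Matrix.GeneralLinearGroup.mkOfDetNeZero !![0, -1; 1, s] (by rw [hdet]; exact one_ne_zero)
    with hAdef
  have hAv : (A : Matrix (Fin 2) (Fin 2) E) = !![0, -1; 1, s] := rfl
  have hρs : ∀ u : U, ((ρ s u : U) : V) = Sg g (u : V) := by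
    intro u
    rw [hs, show AdjoinRoot.root m = AdjoinRoot.mk m X from rfl, hρ, aeval_X]
  have hgi : ∀ x, g (i x) = i ((A : Matrix (Fin 2) (Fin 2) E).mulVec x) := by
    intro x
    have h1 : (A : Matrix (Fin 2) (Fin 2) E).mulVec x = ![-x 1, x 0 + s * x 1] := by
      rw [hAv]
      ext j
      fin_cases j <;> simp [Matrix.mulVec, dotProduct, Fin.sum_univ_two]
      ring
    rw [h1, hi', hi']
    simp only [Matrix.cons_val_zero, Matrix.cons_val_one]
    rw [map_add, ← hρg, ← hρg, map_add, map_neg, LinearMap.neg_apply, LinearMap.add_apply, Submodule.coe_add,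
      Submodule.coe_neg, mul_comm s, map_mul, Module.End.mul_apply]
    have h2 : ρ s w' = ⟨g w', hgU w' w'.2⟩ + v' := by
      apply Subtype.ext
      rw [hρs, Submodule.coe_add, Sg_apply]
      show g (g v) + g.symm (g v) = g (g v) + v
      rw [g.symm_apply_apply]
    rw [h2, map_add, Submodule.coe_add]
    show ((ρ (x 0) w' : U) : V) + _ = _
    abel
  have hgi' : ∀ (k : ℕ) x, (g ^ k) (i x) = i (((A ^ k : GL (Fin 2) E) : Matrix (Fin 2) (Fin 2) E).mulVec x) := by
    intro k
    induction k with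
    | zero =>
      intro x
      rw [pow_zero, pow_zero, Units.val_one, Matrix.one_mulVec]
      rfl
    | succ k ih =>
      intro x
      rw [pow_succ', pow_succ', Units.val_mul, ← Matrix.mulVec_mulVec, ← hgi, ← ih]
      rfl
  have hAp : A ^ p = 1 := by
    apply Units.ext
    apply Matrix.mulVec_injective
    funext x
    apply hinj
    rw [← hgi', hgp, Units.val_one, Matrix.one_mulVec]
    rfl
  have hAZ : A ∉ scZ E := by
    rw [mem_scZ, sc_iff, hAv]
    rintro ⟨-, h, -⟩
    simp at h
  have h2E : (2 : E) ≠ 0 := by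
    have h1 : (2 : E) = algebraMap F E 2 := by rw [map_ofNat]
    rw [h1]
    intro h
    exact h20 ((map_eq_zero (algebraMap F E)).1 h)
  obtain ⟨Y, hY1, hY2, -, hY3⟩ := base_quat h2E hp h5 (by rw [hAp]; exact one_mem _) hAZ
  have hYY : ∀ x, (Y : Matrix (Fin 2) (Fin 2) E).mulVec ((Y : Matrix (Fin 2) (Fin 2) E).mulVec x) = -x := by
    intro x
    rw [Matrix.mulVec_mulVec, ← Units.val_mul, hY1, Units.val_neg, Units.val_one, Matrix.neg_mulVec, Matrix.one_mulVec]
  set T : (Fin 2 → E) →ₗ[F] (Fin 2 → E) := (Matrix.toLin' (Y : Matrix (Fin 2) (Fin 2) E)).restrictScalars F with hT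
  have hT' : ∀ x, T x = (Y : Matrix (Fin 2) (Fin 2) E).mulVec x := fun x => rfl
  obtain ⟨Z, hZ1, hZ2, hZ3⟩ := exists_ext hA hnd i hi T (fun x y => by
    rw [hform, hform, hT', hT', par_mulVec, hY2, one_mul]) (fun x => by rw [hT', hT', hYY])
  refine ⟨Z, hZ1, hZ2, ?_⟩
  refine lift_ns (j := i) hinj (a := glPerm E A) (t := glPerm E Y) (fun x => (hgi x).symm) (fun x => ?_)
    (not_solvable_inj _ (glPerm_injective E) hY3)
  exact (hZ3 x).symm

end

end Cfsg.Agent.H194.Inv
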