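import Cfsg.Agent.H194.Inv.SpCore

/-!
# S3830, row I10 (`PSp_2n(q)`, `q` odd): linear isometries of order `p ≥ 5` (helper194)

`core_lin` : `g` an isometry, `g ^ p = 1`, `g ≠ 1`: `HasY B g`.
-/

set_option autoImplicit false
set_option linter.unusedSectionVars false

namespace Cfsg.Agent.H194.Inv

open Subgroup Cfsg Module Polynomial

variable {F V : Type*} [Field F] [AddCommGroup V] [Module F V] {B : LinearMap.BilinForm F V}

/-- no non-degenerate plane -/
def NoPl (B : LinearMap.BilinForm F V) (g : V ≃ₗ[F] V) : Prop :=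
  ∀ m : F[X], Irreducible m → ∀ v : V, aeval (Sg g) m v = 0 → B v (g v) = 0

theorem NoPl.polar (hA : B.IsAlt) {g : V ≃ₗ[F] V} (hg : ∀ u v, B (g u) (g v) = B u v) (h : NoPl B g) {m : F[X]}
    (hm : Irreducible m) {u v : V} (hu : aeval (Sg g) m u = 0) (hv : aeval (Sg g) m v = 0) :
    B u (g v - g.symm v) = 0 := by
  have h1 := h m hm (u + v) (by rw [map_add, hu, hv, add_zero])
  have h2 := h m hm u hu
  have h3 := h m hm v hv
  simp only [map_add, LinearMap.add_apply] at h1
  have h4 : B v (g u) = -B u (g.symm v) := by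
    rw [← hg u, g.apply_symm_apply, LinearMap.IsAlt.neg hA]
  rw [h2, h3, h4] at h1
  rw [map_sub]
  linear_combination h1

/-- semisimple isometries -/
theorem NoPl.eq_one [Finite F] [FiniteDimensional F V] (hA : B.IsAlt) (hnd : ∀ u, (∀ v, B u v = 0) → u = 0)
    {g : V ≃ₗ[F] V} (hg : ∀ u v, B (g u) (g v) = B u v) (h : NoPl B g) {p : ℕ} (hp : Odd p) (hpF : (p : F) ≠ 0)
    (hgp : g ^ p = 1) : g = 1 := by
  have hp0 : 1 ≤ p := hp.pos
  have hgs : Module.End.IsSemisimple (g.toLinearMap : Module.End F V) := by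
    refine Module.End.isSemisimple_of_squarefree_aeval_eq_zero (X_pow_sub_one_separable_iff.2 hpF).squarefree ?_
    rw [map_sub, map_pow, aeval_X, map_one]
    ext v
    have h1 : ((g.toLinearMap : Module.End F V) ^ p) v = (g ^ p) v := by
      have h2 : ∀ k : ℕ, ∀ v, ((g.toLinearMap : Module.End F V) ^ k) v = (g ^ k) v := by
        intro k
        induction k with
        | zero => intro v; rfl
        | succ k ih =>
          intro v
          rw [pow_succ', pow_succ', Module.End.mul_apply, ih]
          rfl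
      exact h2 p v
    rw [LinearMap.sub_apply, h1, hgp]
    show v - v = 0
    rw [sub_self]
  have hSs : (Sg g).IsSemisimple := by
    have h1 : Sg g = aeval (g.toLinearMap : Module.End F V) (X + X ^ (p - 1) : F[X]) := by
      rw [map_add, map_pow, aeval_X]
      ext v
      show g v + g.symm v = g v + ((g.toLinearMap : Module.End F V) ^ (p - 1)) v
      congr 1
      have h2 : ∀ k : ℕ, ∀ v, ((g.toLinearMap : Module.End F V) ^ k) v = (g ^ k) v := by
        intro k
        induction k with
        | zero => intro v; rfl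
        | succ k ih =>
          intro v
          rw [pow_succ', pow_succ', Module.End.mul_apply, ih]
          rfl
      rw [h2]
      have h3 : g ^ (p - 1) = g⁻¹ := by
        rw [eq_inv_iff_mul_eq_one, ← pow_succ, Nat.sub_add_cancel hp0, hgp]
      rw [h3]
      rfl
    rw [h1]
    exact hgs.aeval _
  have hsq := hSs.minpoly_squarefree
  set μ := minpoly F (Sg g) with hμ
  have hμ0 : aeval (Sg g) μ = 0 := minpoly.aeval F (Sg g)
  -- `V_m` is non-degenerate
  have key : ∀ m : F[X], Irreducible m → m ∣ μ → ∀ v, aeval (Sg g) m v = 0 → g v = v := by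
    intro m hm hmμ v hv
    obtain ⟨m', hm'⟩ := hmμ
    have hcop : IsCoprime m m' := by
      rw [hm.coprime_iff_not_dvd]
      rintro ⟨c, rfl⟩
      rw [hm', ← mul_assoc] at hsq
      exact hm.not_isUnit (hsq m ⟨c, rfl⟩)
    obtain ⟨a, b, hab⟩ := hcop
    have h1 : g v - g.symm v = 0 := by
      set w := g v - g.symm v with hw
      have hwm : aeval (Sg g) m w = 0 := by
        have h2 : aeval (Sg g) m (g.symm v) = 0 := by
          apply g.injective
          rw [← aeval_comm, g.apply_symm_apply, hv, map_zero]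
        rw [hw, map_sub, aeval_comm, hv, map_zero, h2, sub_zero]
      apply hnd
      intro x
      have h2 : x = aeval (Sg g) (a * m) x + aeval (Sg g) (b * m') x := by
        rw [← LinearMap.add_apply, ← map_add, hab, map_one]
        rfl
      have h3 : aeval (Sg g) m (aeval (Sg g) (b * m') x) = 0 := by
        rw [← Module.End.mul_apply, ← map_mul, show m * (b * m') = b * (m * m') by ring, ← hm', map_mul, hμ0,
          mul_zero]
        rfl
      rw [h2, map_add, map_mul, Module.End.mul_apply, ← aeval_adj hg]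
      have h4 : aeval (Sg g) a w = aeval (Sg g) a w := rfl
      have h5 : B (aeval (Sg g) a w) (aeval (Sg g) m x) = 0 := by
        rw [← aeval_adj hg, ← Module.End.mul_apply, ← map_mul, mul_comm m a, map_mul, Module.End.mul_apply, hwm,
          map_zero, map_zero, LinearMap.zero_apply]
      rw [h5, zero_add, ← LinearMap.IsAlt.neg hA, h.polar hA hg hm h3 hv, neg_zero]
    have h2 : g (g v) = v := by
      have h3 : g v = g.symm v := sub_eq_zero.1 h1
      rw [h3, g.apply_symm_apply]
    obtain ⟨k, rfl⟩ := hp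
    have h3 : ∀ j : ℕ, (g ^ (2 * j)) v = v := by
      intro j
      induction j with
      | zero => rfl
      | succ j ih =>
        rw [show 2 * (j + 1) = 2 * j + 1 + 1 by ring, pow_succ, pow_succ]
        show (g ^ (2 * j)) (g (g v)) = v
        rw [h2, ih]
    have h4 : (g ^ (2 * k + 1)) v = g v := by
      rw [pow_succ']
      show g ((g ^ (2 * k)) v) = g v
      rw [h3]
    rw [← h4, hgp]
    rfl
  have key2 : ∀ P : F[X], P ∣ μ → LinearMap.ker (aeval (Sg g) P) ≤ LinearMap.ker (g.toLinearMap - 1 : Module.End F V) := by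
    intro P
    induction P using WfDvdMonoid.induction_on_irreducible with
    | zero =>
      intro h0
      exact absurd (zero_dvd_iff.1 h0) (minpoly.ne_zero (Algebra.IsIntegral.isIntegral (Sg g)))
    | unit u hu =>
      intro _
      obtain ⟨c, hc⟩ := hu.exists_left_inv
      intro v hv
      rw [LinearMap.mem_ker] at hv
      have h1 : v = 0 := by
        have h2 : aeval (Sg g) (c * u) v = v := by rw [hc, map_one]; rfl
        rw [← h2, map_mul, Module.End.mul_apply, hv, map_zero]
      rw [h1]
      exact Submodule.zero_mem _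
    | mul a i ha hi ih =>
      intro hdvd
      have hcop : IsCoprime i a := by
        rw [hi.coprime_iff_not_dvd]
        rintro ⟨c, rfl⟩
        exact hi.not_isUnit (hsq i (dvd_trans (show i * i ∣ i * (i * c) from ⟨c, by ring⟩) hdvd))
      rw [← Polynomial.sup_ker_aeval_eq_ker_aeval_mul_of_coprime _ hcop]
      refine sup_le ?_ (ih ((dvd_mul_left a i).trans hdvd))
      intro v hv
      rw [LinearMap.mem_ker] at hv ⊢
      show g v - v = 0
      rw [key i hi ((dvd_mul_right i a).trans hdvd) v hv, sub_self]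
  apply LinearEquiv.ext
  intro v
  have h1 := key2 μ dvd_rfl (show v ∈ LinearMap.ker (aeval (Sg g) μ) by rw [LinearMap.mem_ker, hμ0]; rfl)
  exact sub_eq_zero.1 h1

/-- a vector of height two -/
theorem exists_height_two {n : Module.End F V} {k : ℕ} (hk : n ^ k = 0) (hn : n ≠ 0) :
    ∃ v, n (n v) = 0 ∧ n v ≠ 0 := by
  classical
  have hex : ∃ k, n ^ k = 0 := ⟨k, hk⟩
  have h0 : 2 ≤ Nat.find hex := by
    by_contra hcon
    have h1 := Nat.find_spec hex
    have h2 : Nat.find hex = 0 ∨ Nat.find hex = 1 := by omega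
    rcases h2 with h2 | h2
    · rw [h2, pow_zero] at h1
      apply hn
      rw [← mul_one n, h1, mul_zero]
    · rw [h2, pow_one] at h1
      exact hn h1
  obtain ⟨j, hj⟩ : ∃ j, Nat.find hex = j + 2 := ⟨Nat.find hex - 2, by omega⟩
  have h1 := Nat.find_spec hex
  rw [hj] at h1
  have h2 : n ^ (j + 1) ≠ 0 := Nat.find_min hex (by omega)
  obtain ⟨u, hu⟩ : ∃ u, (n ^ (j + 1)) u ≠ 0 := by
    by_contra hcon
    push Not at hcon
    exact h2 (LinearMap.ext hcon)
  refine ⟨(n ^ j) u, ?_, ?_⟩
  · have h3 : n (n ((n ^ j) u)) = (n ^ (j + 2)) u := by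
      rw [show j + 2 = j + 1 + 1 by ring, pow_succ', pow_succ']
      rfl
    rw [h3, h1]
    rfl
  · have h3 : n ((n ^ j) u) = (n ^ (j + 1)) u := by
      rw [pow_succ']
      rfl
    rw [h3]
    exact hu

/-- **Linear isometries.** -/
theorem core_lin [Finite F] [FiniteDimensional F V] (hA : B.IsAlt) (hnd : ∀ u, (∀ v, B u v = 0) → u = 0)
    (h20 : (2 : F) ≠ 0) {g : V ≃ₗ[F] V} (hg : ∀ u v, B (g u) (g v) = B u v) {p : ℕ} (hp : p.Prime) (h5 : 5 ≤ p)
    (hgp : g ^ p = 1) (hg1 : g ≠ 1) : HasY B g.toEquiv := by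
  by_cases hno : NoPl B g
  swap
  · unfold NoPl at hno
    push Not at hno
    obtain ⟨m, hm, v, hv, hc⟩ := hno
    exact core_ss hA hnd h20 hg hp h5 hgp hm hv (c := 1) (by rw [map_one]; exact hc)
  have hodd : Odd p := hp.odd_of_ne_two (by omega)
  by_cases hpF : (p : F) ≠ 0
  · exact absurd (hno.eq_one hA hnd hg hodd hpF hgp) hg1
  push Not at hpF
  have hfact := Fact.mk hp
  have hchar : CharP F p := by
    obtain ⟨r, hr⟩ := CharP.exists F
    have h1 : r ∣ p := (CharP.cast_eq_zero_iff F r p).1 hpF
    rcases (Nat.dvd_prime hp).1 h1 with h2 | h2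
    · exact absurd h2 (CharP.char_ne_one F r)
    · rwa [h2] at hr
  set n : Module.End F V := g.toLinearMap - 1 with hn
  have hn' : ∀ v, n v = g v - v := fun v => rfl
  have hnp : n ^ p = 0 := by
    have h1 : n ^ p = aeval (g.toLinearMap : Module.End F V) ((X - 1) ^ p : F[X]) := by
      rw [map_pow, map_sub, aeval_X, map_one]
    rw [h1, sub_pow_char, one_pow, map_sub, map_pow, aeval_X, map_one]
    ext v
    have h2 : ∀ k : ℕ, ∀ v, ((g.toLinearMap : Module.End F V) ^ k) v = (g ^ k) v := by
      intro k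
      induction k with
      | zero => intro v; rfl
      | succ k ih =>
        intro v
        rw [pow_succ', pow_succ', Module.End.mul_apply, ih]
        rfl
    rw [LinearMap.sub_apply, h2, hgp]
    show v - v = 0
    rw [sub_self]
  have hn0 : n ≠ 0 := by
    intro h
    apply hg1
    apply LinearEquiv.ext
    intro v
    have h1 := LinearMap.congr_fun h v
    rw [hn'] at h1
    exact sub_eq_zero.1 h1
  obtain ⟨v, hv, hv0⟩ := exists_height_two hnp hn0
  set w := n v with hw
  have hgv : g v = v + w := by rw [hw, hn', add_sub_cancel]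
  have hgw : g w = w := sub_eq_zero.1 hv
  -- `span {v, w}`
  have hSv : aeval (Sg g) (X - C (2 : F)) v = 0 := by
    rw [map_sub, aeval_X, aeval_C, LinearMap.sub_apply, Module.algebraMap_end_apply, Sg_apply]
    have h1 : g.symm v = v - w := by
      apply g.injective
      rw [g.apply_symm_apply, map_sub, hgv, hgw, add_sub_cancel_right]
    rw [hgv, h1, two_smul]
    abel
  have hBvw : B v w = 0 := by
    have h1 := hno _ (irreducible_X_sub_C 2) v hSv
    rw [hgv, map_add, hA v, zero_add] at h1
    exact h1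
  have hBwv : B w v = 0 := by rw [← LinearMap.IsAlt.neg hA, hBvw, neg_zero]
  set W : Submodule F V := Submodule.span F {v, w} with hWdef
  have hvW : v ∈ W := Submodule.subset_span (Set.mem_insert _ _)
  have hwW : w ∈ W := Submodule.subset_span (Set.mem_insert_of_mem _ rfl)
  have hmem : ∀ x, x ∈ W ↔ ∃ a b : F, a • v + b • w = x := fun x => Submodule.mem_span_pair
  have hWW : ∀ x ∈ W, ∀ y ∈ W, B x y = 0 := by
    intro x hx y hy
    obtain ⟨a, b, rfl⟩ := (hmem x).1 hx
    obtain ⟨c, d, rfl⟩ := (hmem y).1 hy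
    simp only [map_add, LinearMap.add_apply, map_smul, LinearMap.smul_apply]
    rw [hA v, hA w, hBvw, hBwv]
    simp
  have hli : LinearIndependent F ![v, w] := by
    rw [LinearIndependent.pair_iff]
    intro a b hab
    have h1 : a • w = 0 := by
      have h2 := congrArg n hab
      rw [map_add, map_smul, map_smul, map_zero] at h2
      have h3 : n w = 0 := hv
      rw [h3, smul_zero, add_zero] at h2
      exact h2
    have h2 : a = 0 := (smul_eq_zero.1 h1).resolve_right hv0
    rw [h2, zero_smul, zero_add] at hab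
    exact ⟨h2, (smul_eq_zero.1 hab).resolve_right hv0⟩
  have hrank : Module.finrank F W = 2 := by
    have h1 := finrank_span_eq_card hli
    rw [Fintype.card_fin] at h1
    have h2 : Set.range ![v, w] = {v, w} := by
      simp only [Matrix.range_cons, Matrix.range_empty, Set.union_empty, Set.singleton_union]
    rw [h2] at h1
    exact h1
  have hgW : ∀ x ∈ W, g x ∈ W := by
    intro x hx
    obtain ⟨a, b, rfl⟩ := (hmem x).1 hx
    rw [map_add, map_smul, map_smul, hgv, hgw]
    exact W.add_mem (W.smul_mem _ (W.add_mem hvW hwW)) (W.smul_mem _ hwW)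
  have hmap : W.map g.toLinearMap = W := by
    apply Submodule.eq_of_le_of_finrank_eq
    · rintro _ ⟨x, hx, rfl⟩
      exact hgW x hx
    · exact LinearEquiv.finrank_map_eq g W
  set A : W ≃ₗ[F] W := g.ofSubmodules W W hmap with hAdef
  have hAv : ∀ x : W, ((A x : W) : V) = g x := fun x => rfl
  have hApow : ∀ (k : ℕ) (x : W), (((A ^ k) x : W) : V) = (g ^ k) x := by
    intro k
    induction k with
    | zero => intro x; rfl
    | succ k ih =>
      intro x
      rw [pow_succ', pow_succ']
      show ((A ((A ^ k) x) : W) : V) = g ((g ^ k) x)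
      rw [hAv, ih]
  obtain ⟨T, hT1, -, -, hT2⟩ := lin_quat h20 hrank (A := A) hp h5
    ⟨1, fun x => Subtype.ext (by rw [hApow, hgp, one_smul]; rfl)⟩ (by
      rintro ⟨c, hc⟩
      have h1 := congrArg Subtype.val (hc ⟨v, hvW⟩)
      rw [hAv, Submodule.coe_smul] at h1
      have h2 : (1 - c) • v + (1 : F) • w = 0 := by
        have h3 : g v = c • v := h1
        rw [sub_smul, one_smul, one_smul, ← h3, hgv]
        abel
      exact one_ne_zero (LinearIndependent.pair_iff.1 hli _ _ h2).2)
  obtain ⟨Y, hY1, hY2, hY3⟩ := exists_ti hA hnd h20 hWW T hT1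
  refine ⟨Y, hY1, hY2, ?_⟩
  exact lift_ns (j := fun x : W => (x : V)) Subtype.val_injective (a := A.toEquiv) (t := T.toEquiv)
    (fun x => rfl) (fun x => (hY3 x).symm) (not_solvable_perm hT2)

end Cfsg.Agent.H194.Inv
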