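import Cfsg.Agent.H952.RcRows
import Cfsg.Agent.H459.Inv.Base
import Cfsg.Agent.H194.Inv.Base

/-!
# S3830, row I10 (`PSp_2n(q)`, `q` odd): tools (helper194)

* `lift_ns` : non-solvability lifts along an injection of permutation representations;
* `exists_J` : an isometry of square `-1`;
* `exists_ext` : extension of an isometry of square `-1` of a non-degenerate subspace;
* `exists_ti` : extension of an automorphism of square `-1` of a totally isotropic subspace.
-/

set_option autoImplicit false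
set_option linter.unusedSectionVars false

namespace Cfsg.Agent.H194.Inv

open Subgroup Cfsg Module

/-- **Non-solvability lifts.** -/
theorem lift_ns {V W : Type*} (j : W → V) (hj : Function.Injective j) {g Y : Equiv.Perm V} {a t : Equiv.Perm W}
    (h1 : ∀ w, j (a w) = g (j w)) (h2 : ∀ w, j (t w) = Y (j w))
    (h : ¬ Group.IsSolvable ↥(closure ({a, t} : Set (Equiv.Perm W)))) :
    ¬ Group.IsSolvable ↥(closure ({g, Y} : Set (Equiv.Perm V))) := by
  intro hs
  apply h
  set Q : Subgroup (Equiv.Perm V × Equiv.Perm W) :=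
    { carrier := {x | ∀ w, j (x.2 w) = x.1 (j w)}
      one_mem' := fun _ => rfl
      mul_mem' := by
        intro x y hx hy w
        show j (x.2 (y.2 w)) = x.1 (y.1 (j w))
        rw [hx, hy]
      inv_mem' := by
        intro x hx w
        show j (x.2⁻¹ w) = x.1⁻¹ (j w)
        rw [Equiv.Perm.eq_inv_iff_eq, ← hx]
        exact congrArg j (x.2.apply_symm_apply w) } with hQ
  set P : Subgroup (Equiv.Perm V × Equiv.Perm W) := closure {(g, a), (Y, t)} with hP
  have hPQ : P ≤ Q := by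
    rw [hP, closure_le]
    rintro x (rfl | rfl)
    · exact h1
    · exact h2
  have hPs : Group.IsSolvable ↥P := by
    have h3 : ∀ x ∈ P, x.1 ∈ closure ({g, Y} : Set (Equiv.Perm V)) := by
      intro x hx
      have h4 : P ≤ (closure ({g, Y} : Set (Equiv.Perm V))).comap (MonoidHom.fst _ _) := by
        rw [hP, closure_le]
        rintro x (rfl | rfl)
        · exact subset_closure (Set.mem_insert _ _)
        · exact subset_closure (Set.mem_insert_of_mem _ rfl)
      exact h4 hx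
    let f : ↥P →* ↥(closure ({g, Y} : Set (Equiv.Perm V))) :=
      ((MonoidHom.fst (Equiv.Perm V) (Equiv.Perm W)).comp P.subtype).codRestrict _ (fun x => h3 x x.2)
    refine Group.isSolvable_of_isSolvable_injective (f := f) ?_
    rw [injective_iff_map_eq_one]
    rintro ⟨x, hx⟩ hx1
    have h4 : x.1 = 1 := congrArg Subtype.val hx1
    apply Subtype.ext
    apply Prod.ext h4
    apply Equiv.ext
    intro w
    apply hj
    have h5 := hPQ hx w
    rw [h4] at h5
    exact h5
  have h4 : P.map (MonoidHom.snd _ _) = closure ({a, t} : Set (Equiv.Perm W)) := by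
    rw [hP, MonoidHom.map_closure, Set.image_pair]
    rfl
  rw [← h4]
  exact Group.isSolvable_of_surjective (f := (MonoidHom.snd (Equiv.Perm V) (Equiv.Perm W)).subgroupMap P)
    ((MonoidHom.snd (Equiv.Perm V) (Equiv.Perm W)).subgroupMap_surjective P)

/-- permutations underlying linear maps -/
def permHom (F V : Type*) [Field F] [AddCommGroup V] [Module F V] : (V ≃ₗ[F] V) →* Equiv.Perm V where
  toFun := fun f => f.toEquiv
  map_one' := rfl
  map_mul' := fun _ _ => rfl

theorem permHom_injective (F V : Type*) [Field F] [AddCommGroup V] [Module F V] :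
    Function.Injective (permHom F V) := by
  intro a b h
  apply LinearEquiv.ext
  intro v
  exact Equiv.congr_fun h v

theorem not_solvable_perm {F V : Type*} [Field F] [AddCommGroup V] [Module F V] {a t : V ≃ₗ[F] V}
    (h : ¬ Group.IsSolvable ↥(closure ({a, t} : Set (V ≃ₗ[F] V)))) :
    ¬ Group.IsSolvable ↥(closure ({a.toEquiv, t.toEquiv} : Set (Equiv.Perm V))) := by
  intro hs
  apply h
  have h1 : (closure ({a, t} : Set (V ≃ₗ[F] V))).map (permHom F V) =
      closure ({a.toEquiv, t.toEquiv} : Set (Equiv.Perm V)) := by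
    rw [MonoidHom.map_closure, Set.image_pair]
    rfl
  have h2 : Group.IsSolvable ↥((closure ({a, t} : Set (V ≃ₗ[F] V))).map (permHom F V)) := by rw [h1]; exact hs
  refine Group.isSolvable_of_isSolvable_injective
    (f := (permHom F V).subgroupMap (closure ({a, t} : Set (V ≃ₗ[F] V)))) ?_
  intro x y hxy
  exact Subtype.ext (permHom_injective F V (congrArg Subtype.val hxy))

section form

variable {F V : Type*} [Field F] [AddCommGroup V] [Module F V] {B : LinearMap.BilinForm F V}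

/-- a linear map of square `-1` -/
def negEquiv (f : V →ₗ[F] V) (hf : ∀ v, f (f v) = -v) : V ≃ₗ[F] V :=
  LinearEquiv.ofLinearMap f (-f) (by ext v; simp [hf]) (by ext v; simp [hf])

theorem negEquiv_apply (f : V →ₗ[F] V) (hf : ∀ v, f (f v) = -v) (v : V) : negEquiv f hf v = f v := rfl

open Cfsg.Agent.ClassicalGeometry.SympBasic in
theorem exists_J [FiniteDimensional F V] (hA : B.IsAlt) (hnd : ∀ u, (∀ v, B u v = 0) → u = 0) :
    ∃ J : V →ₗ[F] V, (∀ v, J (J v) = -v) ∧ ∀ u v, B (J u) (J v) = B u v := by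
  obtain ⟨k, e, he⟩ := Cfsg.Agent.BpCl.exists_coords hA hnd
  set J0 : (Fin k ⊕ Fin k → F) →ₗ[F] (Fin k ⊕ Fin k → F) := Matrix.toLin' (Matrix.J (Fin k) F) with hJ0
  have h1 : ∀ x, J0 (J0 x) = -x := by
    intro x
    rw [hJ0, Matrix.toLin'_apply, Matrix.toLin'_apply, Matrix.mulVec_mulVec, Matrix.J_squared, Matrix.neg_mulVec,
      Matrix.one_mulVec]
  have h2 : ∀ x y, sympForm k F (J0 x) (J0 y) = sympForm k F x y := by
    intro x y
    rw [sympForm_eq_sum, sympForm_eq_sum]
    refine Finset.sum_congr rfl fun i _ => ?_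
    rw [hJ0, Matrix.toLin'_apply, Matrix.toLin'_apply, J_mulVec_inl, J_mulVec_inl, J_mulVec_inr, J_mulVec_inr]
    ring
  refine ⟨e.toLinearMap ∘ₗ J0 ∘ₗ e.symm.toLinearMap, fun v => ?_, fun u v => ?_⟩
  · show e (J0 (e.symm (e (J0 (e.symm v))))) = -v
    rw [e.symm_apply_apply, h1, map_neg, e.apply_symm_apply]
  · show B (e (J0 (e.symm u))) (e (J0 (e.symm v))) = B u v
    rw [he, h2, ← he, e.apply_symm_apply, e.apply_symm_apply]

/-- **Extension** of `T` by a map of square `-1` -/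
theorem exists_ext [FiniteDimensional F V] (hA : B.IsAlt) (hnd : ∀ u, (∀ v, B u v = 0) → u = 0)
    {U : Type*} [AddCommGroup U] [Module F U] (i : U →ₗ[F] V) (hi : ∀ u, (∀ v, B (i u) (i v) = 0) → u = 0)
    (T : U →ₗ[F] U) (hT : ∀ u v, B (i (T u)) (i (T v)) = B (i u) (i v)) (hT2 : ∀ u, T (T u) = -u) :
    ∃ Y : V →ₗ[F] V, (∀ v, Y (Y v) = -v) ∧ (∀ u v, B (Y u) (Y v) = B u v) ∧ ∀ u, Y (i u) = i (T u) := by
  have hinj : Function.Injective i := by
    rw [injective_iff_map_eq_zero]
    intro u hu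
    apply hi
    intro v
    rw [hu, map_zero, LinearMap.zero_apply]
  set H := LinearMap.range i with hH
  set e : U ≃ₗ[F] H := LinearEquiv.ofInjective i hinj with he
  have hev : ∀ u, (e u : V) = i u := fun u => rfl
  have hrefl : B.IsRefl := hA.isRefl
  have hdisj : Disjoint H (B.orthogonal H) := by
    rw [Submodule.disjoint_def]
    rintro _ ⟨u, rfl⟩ h2
    rw [hi u, map_zero]
    intro v
    rw [← LinearMap.IsAlt.neg hA, h2 (i v) ⟨v, rfl⟩, neg_zero]
  have hc : IsCompl H (B.orthogonal H) := (LinearMap.BilinForm.isCompl_orthogonal_iff_disjoint hrefl).2 hdisj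
  set H' := B.orthogonal H with hH'
  have hHH' : ∀ a ∈ H, ∀ b ∈ H', B a b = 0 := fun a ha b hb => hb a ha
  have hH'H : ∀ b ∈ H', ∀ a ∈ H, B b a = 0 := fun b hb a ha => by
    rw [← LinearMap.IsAlt.neg hA, hHH' a ha b hb, neg_zero]
  have hndH' : ∀ u : H', (∀ v : H', B u v = 0) → u = 0 := by
    intro u hu
    apply Subtype.ext
    apply hnd
    intro v
    obtain ⟨s, hs, t, ht, rfl⟩ := Submodule.mem_sup.1
      (show v ∈ H ⊔ H' by rw [hc.sup_eq_top]; exact Submodule.mem_top)
    rw [map_add, hH'H _ u.2 s hs, hu ⟨t, ht⟩, add_zero]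
  obtain ⟨J, hJ1, hJ2⟩ := exists_J (B := B.restrict H') (fun u => hA u) hndH'
  set f1 : H →ₗ[F] V := H.subtype ∘ₗ e.toLinearMap ∘ₗ T ∘ₗ e.symm.toLinearMap with hf1
  set f2 : H' →ₗ[F] V := H'.subtype ∘ₗ J with hf2
  have hf1' : ∀ u, f1 (e u) = i (T u) := by
    intro u
    show ((e (T (e.symm (e u))) : H) : V) = _
    rw [e.symm_apply_apply, hev]
  set Y := LinearMap.ofIsCompl hc f1 f2 with hY
  have hY1 : ∀ u, Y (i u) = i (T u) := by
    intro u
    have h3 := LinearMap.ofIsCompl_apply_left (φ := f1) (ψ := f2) hc (e u)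
    rw [hf1'] at h3
    exact h3
  have hY2 : ∀ u : H', Y u = J u := fun u => LinearMap.ofIsCompl_apply_right (φ := f1) (ψ := f2) hc u
  have hdec : ∀ v : V, ∃ (u : U) (w : H'), v = i u + w := by
    intro v
    obtain ⟨_, ⟨u, rfl⟩, t, ht, rfl⟩ := Submodule.mem_sup.1
      (show v ∈ H ⊔ H' by rw [hc.sup_eq_top]; exact Submodule.mem_top)
    exact ⟨u, ⟨t, ht⟩, rfl⟩
  refine ⟨Y, fun v => ?_, fun v v' => ?_, hY1⟩
  · obtain ⟨u, w, rfl⟩ := hdec v
    rw [map_add, hY1, hY2, map_add, hY1, hY2, hT2, hJ1, map_neg, Submodule.coe_neg, neg_add]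
  · obtain ⟨u, w, rfl⟩ := hdec v
    obtain ⟨u', w', rfl⟩ := hdec v'
    have hJ3 : B (J w : V) (J w' : V) = B (w : V) (w' : V) := hJ2 w w'
    simp only [map_add, LinearMap.add_apply]
    rw [hY1, hY1, hY2, hY2, hT, hJ3, hHH' _ ⟨_, rfl⟩ _ (J w').2, hH'H _ (J w).2 _ ⟨_, rfl⟩,
      hHH' _ ⟨_, rfl⟩ _ w'.2, hH'H _ w.2 _ ⟨_, rfl⟩]

/-- a totally isotropic complement -/
theorem exists_dual [FiniteDimensional F V] (hA : B.IsAlt) (hnd : ∀ u, (∀ v, B u v = 0) → u = 0)
    (h20 : (2 : F) ≠ 0) {W : Submodule F V} (hW : ∀ u ∈ W, ∀ v ∈ W, B u v = 0) :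
    ∃ σ : Module.Dual F W →ₗ[F] V, (∀ (w : W) f, B (w : V) (σ f) = f w) ∧ ∀ f f', B (σ f) (σ f') = 0 := by
  have hB : B.Nondegenerate := by
    refine ⟨?_, ?_⟩
    · intro u hu
      exact hnd u hu
    · intro u hu
      apply hnd u
      intro v
      rw [← LinearMap.IsAlt.neg hA, hu v, neg_zero]
  have hsurj : Function.Surjective ((Submodule.dualRestrict W) ∘ₗ (B.flip : V →ₗ[F] V →ₗ[F] F)) := by
    intro f
    obtain ⟨f', hf'⟩ := Subspace.dualRestrict_surjective (W := W) f
    refine ⟨-(LinearMap.BilinForm.toDual B hB).symm f', ?_⟩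
    ext w
    rw [← hf']
    show B (w : V) (-(LinearMap.BilinForm.toDual B hB).symm f') = f' w
    rw [map_neg, LinearMap.IsAlt.neg hA]
    have h1 := LinearMap.BilinForm.toDual_def (b := hB) (m := (LinearMap.BilinForm.toDual B hB).symm f') (n := (w : V))
    rw [LinearEquiv.apply_symm_apply] at h1
    exact h1.symm
  obtain ⟨σ, hσ⟩ := LinearMap.exists_rightInverse_of_surjective _ (LinearMap.range_eq_top.2 hsurj)
  have hσ1 : ∀ (w : W) f, B (w : V) (σ f) = f w := by
    intro w f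
    exact LinearMap.congr_fun (LinearMap.congr_fun hσ f) w
  set τ : Module.Dual F W →ₗ[F] W := (Module.evalEquiv F W).symm.toLinearMap ∘ₗ
    ((2 : F)⁻¹ • (B.compl₁₂ σ σ).flip) with hτ
  have hτ1 : ∀ f f', f (τ f') = (2 : F)⁻¹ * B (σ f) (σ f') := by
    intro f f'
    rw [hτ]
    simp only [LinearMap.comp_apply, LinearEquiv.coe_coe, Module.apply_evalEquiv_symm_apply, LinearMap.smul_apply,
      LinearMap.flip_apply, LinearMap.compl₁₂_apply, smul_eq_mul]
  refine ⟨σ + W.subtype ∘ₗ τ, ?_, ?_⟩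
  · intro w f
    show B (w : V) (σ f + (τ f : V)) = f w
    rw [map_add, hσ1, hW _ w.2 _ (τ f).2, add_zero]
  · intro f f'
    show B (σ f + (τ f : V)) (σ f' + (τ f' : V)) = 0
    have h1 : B (σ f) (τ f' : V) = -((2 : F)⁻¹ * B (σ f) (σ f')) := by
      rw [← LinearMap.IsAlt.neg hA, hσ1, hτ1]
    have h2 : B (τ f : V) (σ f') = -((2 : F)⁻¹ * B (σ f) (σ f')) := by
      rw [hσ1, hτ1, ← LinearMap.IsAlt.neg hA (σ f) (σ f'), mul_neg]
    simp only [map_add, LinearMap.add_apply]
    rw [h1, h2, hW _ (τ f).2 _ (τ f').2, add_zero]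
    have h3 : (2 : F) * (2 : F)⁻¹ = 1 := mul_inv_cancel₀ h20
    linear_combination (-B (σ f) (σ f')) * h3

/-- **totally isotropic subspaces** -/
theorem exists_ti [FiniteDimensional F V] (hA : B.IsAlt) (hnd : ∀ u, (∀ v, B u v = 0) → u = 0)
    (h20 : (2 : F) ≠ 0) {W : Submodule F V} (hW : ∀ u ∈ W, ∀ v ∈ W, B u v = 0) (T : W ≃ₗ[F] W)
    (hT : ∀ w, T (T w) = -w) :
    ∃ Y : V →ₗ[F] V, (∀ v, Y (Y v) = -v) ∧ (∀ u v, B (Y u) (Y v) = B u v) ∧ ∀ w : W, Y w = T w := by
  obtain ⟨σ, hσ1, hσ2⟩ := exists_dual hA hnd h20 hW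
  have hσ3 : ∀ (w : W) f, B (σ f) (w : V) = -f w := by
    intro w f
    rw [← LinearMap.IsAlt.neg hA, hσ1]
  set i : (W × Module.Dual F W) →ₗ[F] V := W.subtype.coprod σ with hi
  have hi' : ∀ x, i x = (x.1 : V) + σ x.2 := fun x => rfl
  have hform : ∀ x y, B (i x) (i y) = y.2 x.1 - x.2 y.1 := by
    intro x y
    rw [hi', hi']
    simp only [map_add, LinearMap.add_apply]
    rw [hW _ x.1.2 _ y.1.2, hσ1, hσ3, hσ2]
    ring
  have hTs : ∀ w, T.symm (T.symm w) = -w := by
    intro w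
    apply T.injective
    rw [T.apply_symm_apply]
    apply T.injective
    rw [T.apply_symm_apply, map_neg, map_neg, hT, neg_neg]
  set D : Module.Dual F W →ₗ[F] Module.Dual F W := T.symm.toLinearMap.dualMap with hD
  have hD' : ∀ f w, D f w = f (T.symm w) := fun f w => rfl
  have h1 : ∀ x, (∀ y, B (i x) (i y) = 0) → x = 0 := by
    intro x hx
    have h1 : x.1 = 0 := by
      rw [← Module.forall_dual_apply_eq_zero_iff F x.1]
      intro f
      have h2 := hx (0, f)
      rw [hform] at h2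
      simpa using h2
    have h2 : x.2 = 0 := by
      ext w
      have h2 := hx (w, 0)
      rw [hform] at h2
      simpa using h2
    exact Prod.ext h1 h2
  have h2 : ∀ x y, B (i (T.toLinearMap.prodMap D x)) (i (T.toLinearMap.prodMap D y)) = B (i x) (i y) := by
    intro x y
    rw [hform, hform]
    simp only [LinearMap.prodMap_apply, LinearEquiv.coe_coe, hD', T.symm_apply_apply]
  have h3 : ∀ x, T.toLinearMap.prodMap D (T.toLinearMap.prodMap D x) = -x := by
    intro x
    apply Prod.ext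
    · exact hT x.1
    · ext w
      simp only [LinearMap.prodMap_apply, hD', hTs, map_neg, Prod.snd_neg, LinearMap.neg_apply]
  obtain ⟨Y, hY1, hY2, hY3⟩ := exists_ext hA hnd i h1 (T.toLinearMap.prodMap D) h2 h3
  refine ⟨Y, hY1, hY2, fun w => ?_⟩
  have h4 := hY3 (w, 0)
  rw [hi', hi'] at h4
  simpa using h4

end form

end Cfsg.Agent.H194.Inv
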